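import Mathlib

/-! The total complex of a bifunctor applied to a mapping cone in the first variable is a mapping cone. -/

open CategoryTheory Limits HomologicalComplex CochainComplex HomComplex

set_option backward.isDefEq.respectTransparency false

namespace Groth.Agent.MapBifunctorCone

universe v₁ v₂ v₃ u₁ u₂ u₃

variable {C₁ : Type u₁} {C₂ : Type u₂} {D : Type u₃} [Category.{v₁} C₁] [Category.{v₂} C₂] [Category.{v₃} D]
  [Preadditive C₁] [Preadditive C₂] [Preadditive D] [HasBinaryBiproducts C₁] [HasBinaryBiproducts D]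
  {K G : CochainComplex C₁ ℤ} (φ : K ⟶ G) (L : CochainComplex C₂ ℤ)
  (F : C₁ ⥤ C₂ ⥤ D) [F.Additive] [∀ X, (F.obj X).Additive]
  [CochainComplex.HasMapBifunctor K L F] [CochainComplex.HasMapBifunctor G L F]
  [CochainComplex.HasMapBifunctor (mappingCone φ) L F]

noncomputable abbrev rightMap : CochainComplex.mapBifunctor K L F ⟶ CochainComplex.mapBifunctor G L F :=
  mapBifunctorMap φ (𝟙 L) F (ComplexShape.up ℤ)

noncomputable def α : Cochain (CochainComplex.mapBifunctor K L F) (CochainComplex.mapBifunctor (mappingCone φ) L F) (-1) :=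
  Cochain.mk fun n m hnm => mapBifunctorDesc fun i j h =>
    (F.map ((mappingCone.inl φ).v i (i - 1) (by omega))).app (L.X j) ≫
      CochainComplex.ιMapBifunctor (mappingCone φ) L F (i - 1) j m (by change i + j = n at h; omega)

noncomputable def β : CochainComplex.mapBifunctor G L F ⟶ CochainComplex.mapBifunctor (mappingCone φ) L F :=
  mapBifunctorMap (mappingCone.inr φ) (𝟙 L) F (ComplexShape.up ℤ)

lemma δ_α : δ (-1) 0 (α φ L F) = Cochain.ofHom (rightMap φ L F ≫ β φ L F) := by
  ext n i j h
  rw [δ_v (-1) 0 (by omega) _ n n (add_zero n) (n - 1) (n + 1) rfl rfl, Int.negOnePow_zero, one_smul, Cochain.ofHom_v,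
    HomologicalComplex.comp_f]
  change i + j = n at h
  simp only [α, Cochain.mk_v, Preadditive.comp_add, ι_mapBifunctorDesc_assoc, rightMap, β, ι_mapBifunctorMap_assoc,
    ι_mapBifunctorMap, HomologicalComplex.id_f, CategoryTheory.Functor.map_id, Category.id_comp, mapBifunctor.d_eq,
    mapBifunctor.ι_D₁, mapBifunctor.ι_D₂, mapBifunctor.ι_D₁_assoc, mapBifunctor.ι_D₂_assoc, Preadditive.add_comp,
    Category.assoc]
  rw [mapBifunctor.d₁_eq _ _ _ _ (show (ComplexShape.up ℤ).Rel (i - 1) i by simp) j n h,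
    mapBifunctor.d₂_eq _ _ _ _ (i - 1) (show (ComplexShape.up ℤ).Rel j (j + 1) by simp) n (show i - 1 + (j + 1) = n by omega),
    mapBifunctor.d₁_eq _ _ _ _ (show (ComplexShape.up ℤ).Rel i (i + 1) by simp) j (n + 1) (show i + 1 + j = n + 1 by omega),
    mapBifunctor.d₂_eq _ _ _ _ i (show (ComplexShape.up ℤ).Rel j (j + 1) by simp) (n + 1) (show i + (j + 1) = n + 1 by omega)]
  simp only [show ∀ a b : ℤ, ComplexShape.ε₁ (ComplexShape.up ℤ) (ComplexShape.up ℤ) (ComplexShape.up ℤ) (a, b) = 1 from fun _ _ => rfl,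
    show ∀ a b : ℤ, ComplexShape.ε₂ (ComplexShape.up ℤ) (ComplexShape.up ℤ) (ComplexShape.up ℤ) (a, b) = a.negOnePow from fun _ _ => rfl,
    one_smul, Units.smul_def, Linear.units_smul_comp, Preadditive.zsmul_comp, Preadditive.comp_zsmul, Category.assoc,
    ι_mapBifunctorDesc, add_sub_cancel_right]
  rw [← NatTrans.comp_app_assoc, ← Functor.map_comp, mappingCone.inl_v_d φ i (i - 1) (i + 1) (by omega) (by omega),
    Functor.map_sub, NatTrans.app_sub, Preadditive.sub_comp, Functor.map_comp, Functor.map_comp, NatTrans.comp_app,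
    NatTrans.comp_app, Category.assoc, Category.assoc, Int.negOnePow_sub, Int.negOnePow_one, mul_neg_one, Units.val_neg,
    neg_smul, NatTrans.naturality_assoc]
  have key : ∀ (k : ℤ) (h1 : i + 1 + (-1) = k) (h2 : k + j = n),
      (F.map ((mappingCone.inl φ).v (i + 1) k h1)).app (L.X j) ≫ CochainComplex.ιMapBifunctor (mappingCone φ) L F k j n h2 =
      (F.map ((mappingCone.inl φ).v (i + 1) i (by omega))).app (L.X j) ≫ CochainComplex.ιMapBifunctor (mappingCone φ) L F i j n h := by
    intro k h1 h2
    obtain rfl : k = i := by omega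
    rfl
  rw [key (i + 1 - 1) (by omega) (by omega)]
  abel

noncomputable def hom : mappingCone (rightMap φ L F) ⟶ CochainComplex.mapBifunctor (mappingCone φ) L F :=
  mappingCone.desc _ (α φ L F) (β φ L F) (δ_α φ L F)

noncomputable def invF (n : ℤ) :
    (CochainComplex.mapBifunctor (mappingCone φ) L F).X n ⟶ (mappingCone (rightMap φ L F)).X n :=
  mapBifunctorDesc fun i j h =>
    (F.map ((mappingCone.fst φ).1.v i (i + 1) rfl)).app (L.X j) ≫
        CochainComplex.ιMapBifunctor K L F (i + 1) j (n + 1) (by change i + j = n at h; omega) ≫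
          (mappingCone.inl (rightMap φ L F)).v (n + 1) n (by omega) +
      (F.map ((mappingCone.snd φ).v i i (add_zero i))).app (L.X j) ≫
        CochainComplex.ιMapBifunctor G L F i j n h ≫ (mappingCone.inr (rightMap φ L F)).f n

lemma aux_inl (i i' i'' j n : ℤ) (h1 : i + (-1) = i') (h2 : i' + 1 = i'') (h : i'' + j = n) :
    (F.map ((mappingCone.inl φ).v i i' h1 ≫ (mappingCone.fst φ).1.v i' i'' h2)).app (L.X j) ≫
      CochainComplex.ιMapBifunctor K L F i'' j n h = CochainComplex.ιMapBifunctor K L F i j n (by omega) := by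
  obtain rfl : i'' = i := by omega
  simp

lemma aux_id (i i' i'' j n : ℤ) (h1 : i + 1 = i') (h2 : i' + (-1) = i'') (h : i'' + j = n) :
    (F.map ((mappingCone.fst φ).1.v i i' h1 ≫ (mappingCone.inl φ).v i' i'' h2)).app (L.X j) ≫
        CochainComplex.ιMapBifunctor (mappingCone φ) L F i'' j n h +
      (F.map ((mappingCone.snd φ).v i i (add_zero i) ≫ (mappingCone.inr φ).f i)).app (L.X j) ≫
        CochainComplex.ιMapBifunctor (mappingCone φ) L F i j n (by omega) =
      CochainComplex.ιMapBifunctor (mappingCone φ) L F i j n (by omega) := by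
  obtain rfl : i'' = i := by omega
  rw [← Preadditive.add_comp, ← NatTrans.app_add, ← Functor.map_add, mappingCone.id_X φ i'' i' h1, CategoryTheory.Functor.map_id,
    NatTrans.id_app, Category.id_comp]

lemma invF_hom (n : ℤ) : invF φ L F n ≫ (hom φ L F).f n = 𝟙 _ := by
  refine mapBifunctor.hom_ext fun i j h => ?_
  simp only [invF, hom, ι_mapBifunctorDesc_assoc, Preadditive.add_comp, Category.assoc, mappingCone.inl_v_desc_f,
    mappingCone.inr_f_desc_f, α, β, Cochain.mk_v, ι_mapBifunctorDesc, ι_mapBifunctorMap, HomologicalComplex.id_f,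
    CategoryTheory.Functor.map_id, Category.id_comp, Category.comp_id, add_sub_cancel_right]
  rw [← NatTrans.comp_app_assoc, ← Functor.map_comp, ← NatTrans.comp_app_assoc, ← Functor.map_comp]
  exact aux_id φ L F i (i + 1) _ j n rfl (by omega) (by change i + j = n at h; omega)

lemma hom_invF (n : ℤ) : (hom φ L F).f n ≫ invF φ L F n = 𝟙 _ := by
  rw [mappingCone.ext_from_iff _ (n + 1) n rfl]
  constructor
  all_goals
    rw [Category.comp_id, ← Category.assoc]
    simp only [hom, mappingCone.inl_v_desc_f, mappingCone.inr_f_desc_f]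
    refine mapBifunctor.hom_ext fun i j h => ?_
    simp only [α, β, Cochain.mk_v, ι_mapBifunctorDesc_assoc, ι_mapBifunctorMap_assoc, HomologicalComplex.id_f,
      CategoryTheory.Functor.map_id, Category.id_comp, Category.assoc, invF, ι_mapBifunctorDesc, Preadditive.comp_add,
      ← NatTrans.comp_app_assoc, ← Functor.map_comp, sub_add_cancel, mappingCone.inl_v_fst_v, mappingCone.inl_v_snd_v,
      mappingCone.inr_f_fst_v, mappingCone.inr_f_snd_v, Functor.map_zero, zero_app, zero_comp, add_zero, zero_add,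
      NatTrans.id_app]
  rw [← Category.assoc, aux_inl]

/-- `mappingCone φ ⊗ L ≅ mappingCone (φ ⊗ L)`. -/
noncomputable def iso : mappingCone (rightMap φ L F) ≅ CochainComplex.mapBifunctor (mappingCone φ) L F :=
  haveI : ∀ n, IsIso ((hom φ L F).f n) := fun n => ⟨invF φ L F n, hom_invF φ L F n, invF_hom φ L F n⟩
  haveI : IsIso (hom φ L F) := HomologicalComplex.Hom.isIso_of_components _
  asIso (hom φ L F)

end Groth.Agent.MapBifunctorCone
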